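import Groth.Agent.RelVA.FTSub
import Groth.Agent.Ega2Proj.ClosedProj
import Groth.Agent.Ega2Proj.SymGen
import Groth.Agent.Ega2Proj2.RelProjMap
import Groth.Agent.RelTwist.ComapIso
import Groth.Agent.RelTwist.Exist
import Groth.Agent.Chow.Projective
import Groth.Agent.QCohMod.FiniteType

/-!
A quasi-compact immersion into a relative `Proj` is a dense open immersion into the relative `Proj`
of a graded quotient, compatibly with `O(1)`.
-/

set_option autoImplicit false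
set_option backward.isDefEq.respectTransparency.types false
set_option linter.style.haveILetI false

universe u

open CategoryTheory CategoryTheory.Limits AlgebraicGeometry Opposite TopologicalSpace
open HomogeneousLocalization
open scoped HomogeneousIdeal

noncomputable section

namespace Groth.Ega2Dense

open Groth.Ega2Proj

variable {S : Scheme.{u}}

theorem irrelevant_le_map_of_surjective {𝒜 ℬ : RelProj.QCGrAlg S} (φ : 𝒜.toQCAlg ⟶ ℬ.toQCAlg)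
    (hφ : RelProj.IsGradedHom φ)
    (hsurj : ∀ (k : ℕ) (U : S.Opens) (hU : IsAffineOpen U) (y : ℬ.presheaf.obj (op U)),
      y ∈ ℬ.deg U hU k → ∃ x ∈ 𝒜.deg U hU k, RelProj.gradedHomAt φ hφ U hU x = y)
    (U : S.Opens) (hU : IsAffineOpen U) :
    (ℬ.deg U hU)₊ ≤ ((𝒜.deg U hU)₊).map (RelProj.gradedHomAt φ hφ U hU) := by
  refine (HomogeneousIdeal.irrelevant_le _).2 fun i hi y hy => ?_
  obtain ⟨x, hx, rfl⟩ := hsurj i U hU y hy
  exact Ideal.mem_map_of_mem _ (HomogeneousIdeal.mem_irrelevant_of_mem _ hi hx)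

set_option backward.isDefEq.respectTransparency false in
theorem comp_eq_map_of_charts {A B : Type u} [CommRing A] [CommRing B] {σ τ : Type u} [SetLike σ A]
    [AddSubgroupClass σ A] [SetLike τ B] [AddSubgroupClass τ B] {𝒜 : ℕ → σ} {ℬ : ℕ → τ}
    [GradedRing 𝒜] [GradedRing ℬ] (g : 𝒜 →+*ᵍ ℬ) (hg : ℬ₊ ≤ (𝒜₊).map g) {P PB : Scheme.{u}}
    (j : Proj ℬ ⟶ PB) (j' : Proj 𝒜 ⟶ P) (h : PB ⟶ P)
    (H : ∀ (d : ℕ) (hd : 0 < d) (f : A) (hf : f ∈ 𝒜 d),
      (Proj.awayι ℬ (g f) (g.map_mem hf) hd ≫ j) ≫ h =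
        Spec.map (CommRingCat.ofHom (Away.map g f)) ≫ Proj.awayι 𝒜 f hf hd ≫ j') :
    j ≫ h = Proj.map g hg ≫ j' := by
  let 𝒰 := Proj.mapAffineOpenCover g hg
  refine Scheme.Cover.hom_ext 𝒰.openCover _ _ fun s => ?_
  simp only [𝒰, Scheme.AffineOpenCover.openCover_f, Proj.mapAffineOpenCover_f]
  rw [Proj.awayι_comp_map_assoc g hg _ _ s.2.2, ← H s.1 s.1.2 s.2 s.2.2]
  simp only [Category.assoc]

theorem isRelProjMap_of_isProjQMap {𝒜 ℬ : RelProj.QCGrAlg S} {P PB : Scheme.{u}}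
    (φ : 𝒜.toQCAlg ⟶ ℬ.toQCAlg) (hφ : RelProj.IsGradedHom φ)
    (hirr : ∀ (U : S.Opens) (hU : IsAffineOpen U),
      (ℬ.deg U hU)₊ ≤ ((𝒜.deg U hU)₊).map (RelProj.gradedHomAt φ hφ U hU))
    {p : P ⟶ S} {pB : PB ⟶ S}
    {chart : ∀ (U : S.Opens) (hU : IsAffineOpen U), (((p ⁻¹ᵁ U : P.Opens) : Scheme.{u}) ≅ Proj (𝒜.deg U hU))}
    {chartB : ∀ (U : S.Opens) (hU : IsAffineOpen U), (((pB ⁻¹ᵁ U : PB.Opens) : Scheme.{u}) ≅ Proj (ℬ.deg U hU))}
    {h : PB ⟶ P} (hh : RelProj.IsProjQMap (RelProj.QGrHom.ofHom φ hφ) p chart pB chartB h) :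
    RelProj.IsRelProjMap φ hφ hirr chart chartB h := by
  rw [Groth.Ega2P2.isRelProjMap_iff]
  intro U hU
  refine comp_eq_map_of_charts _ (hirr U hU) _ _ h fun d hd f hf => ?_
  have key : ∀ ψ : 𝒜.deg U hU →+*ᵍ ℬ.deg U hU, ψ = RelProj.gradedHomAt φ hφ U hU →
      ((Proj.awayι (ℬ.deg U hU) (ψ f) (ψ.map_mem hf) hd ≫ RelProj.emb pB chartB U hU) ≫ h =
        Spec.map (CommRingCat.ofHom (Away.map ψ f)) ≫
          Proj.awayι (𝒜.deg U hU) f hf hd ≫ RelProj.emb p chart U hU) →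
      ((Proj.awayι (ℬ.deg U hU) (RelProj.gradedHomAt φ hφ U hU f)
          ((RelProj.gradedHomAt φ hφ U hU).map_mem hf) hd ≫ RelProj.emb pB chartB U hU) ≫ h =
        Spec.map (CommRingCat.ofHom (Away.map (RelProj.gradedHomAt φ hφ U hU) f)) ≫
          Proj.awayι (𝒜.deg U hU) f hf hd ≫ RelProj.emb p chart U hU) := by
    intro ψ e hψ; subst e; exact hψ
  exact key ((RelProj.QGrHom.ofHom φ hφ).gradedAt U hU U hU le_rfl)
    (Groth.Ega2P2.ofHom_gradedAt_self φ hφ U hU le_rfl) (hh.2 U hU U hU le_rfl d hd f hf)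

theorem exists_open_dense {P X : Scheme.{u}} {𝒯 : RelProj.QCGrAlg S} {p : P ⟶ S}
    {chart : ∀ (U : S.Opens) (hU : IsAffineOpen U), (((p ⁻¹ᵁ U : P.Opens) : Scheme.{u}) ≅ Proj (𝒯.deg U hU))}
    (hgen : 𝒯.IsGenDegOne) (hft : 𝒯.IsFTDeg 1) (hP : RelProj.IsRelProj 𝒯 p chart) {O1 : P.Modules}
    {lam : ∀ (U : S.Opens) (hU : IsAffineOpen U),
      O1 ⟶ (Scheme.Modules.pushforward (RelProj.emb p chart U hU)).obj (GrTwist.twist (𝒯.deg U hU) 1)}
    (hO1 : RelProj.IsRelTwist 𝒯 p chart 1 O1 lam) (i : X ⟶ P) [IsImmersion i] [QuasiCompact i] :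
    ∃ (𝒮 : RelProj.QCGrAlg S) (Q : Scheme.{u}) (q : Q ⟶ S)
      (chartQ : ∀ (U : S.Opens) (hU : IsAffineOpen U), ((q ⁻¹ᵁ U : Q.Opens) : Scheme.{u}) ≅ Proj (𝒮.deg U hU))
      (OQ : Q.Modules)
      (lamQ : ∀ (U : S.Opens) (hU : IsAffineOpen U),
        OQ ⟶ (Scheme.Modules.pushforward (RelProj.emb q chartQ U hU)).obj (GrTwist.twist (𝒮.deg U hU) 1))
      (r : X ⟶ Q),
      𝒮.IsGenDegOne ∧ 𝒮.IsFTDeg 1 ∧ RelProj.IsRelProj 𝒮 q chartQ ∧ RelProj.IsRelTwist 𝒮 q chartQ 1 OQ lamQ ∧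
        IsOpenImmersion r ∧ Dense (Set.range r.base) ∧ r ≫ q = i ≫ p ∧
        Nonempty ((Scheme.Modules.pullback i).obj O1 ≅ (Scheme.Modules.pullback r).obj OQ) := by
  have : IsProper p :=
    Groth.Chow.isProper_of_isProjective ⟨𝒯, P, p, chart, Iso.refl P, hgen, hft, hP, Category.id_comp p⟩
  obtain ⟨PB, pB, chartB, h, e, hB, hh, he, hp⟩ := ClosedProj.exists_quotient hP i.imageι
  let φ : 𝒯.toQCAlg ⟶ (ClosedProj.quotGr hP i.imageι.ker).toQCAlg := ClosedProj.projAlg hP i.imageι.ker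
  let hφ : RelProj.IsGradedHom φ := ClosedProj.isGradedHom_proj hP i.imageι.ker
  have hsurj : ∀ (k : ℕ) (U : S.Opens) (hU : IsAffineOpen U)
      (y : (ClosedProj.quotGr hP i.imageι.ker).presheaf.obj (op U)),
      y ∈ (ClosedProj.quotGr hP i.imageι.ker).deg U hU k → ∃ x ∈ 𝒯.deg U hU k,
        RelProj.gradedHomAt (ℬ := ClosedProj.quotGr hP i.imageι.ker) φ hφ U hU x = y := by
    rintro k U hU _ ⟨x, hx, rfl⟩
    exact ⟨x, hx, rfl⟩
  have hirr := irrelevant_le_map_of_surjective φ hφ hsurj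
  have hrel := isRelProjMap_of_isProjQMap φ hφ hirr hh
  obtain ⟨θ⟩ := Groth.RelTw.nonempty_pullback_relTwist_iso φ hφ hgen hirr hP hB hrel hO1
    (Groth.RelTw.isRelTwist_relTwist hB 1)
  have hri : (i.toImage ≫ e.inv) ≫ h = i := by
    rw [← he, Category.assoc, Iso.inv_hom_id_assoc, i.toImage_imageι]
  refine ⟨_, PB, pB, chartB, _, _, i.toImage ≫ e.inv, ClosedProj.isGenDegOne_quot hP _ hgen,
    ClosedProj.isFTDeg_quot hP _ hft, hB, Groth.RelTw.isRelTwist_relTwist hB 1, inferInstance, ?_, ?_,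
    ⟨?_⟩⟩
  · exact (inferInstance : IsDominant (i.toImage ≫ e.inv)).denseRange
  · rw [← hp, ← Category.assoc, hri]
  · exact (Scheme.Modules.pullbackCongr hri.symm).app O1 ≪≫
      ((Scheme.Modules.pullbackComp _ h).app O1).symm ≪≫ (Scheme.Modules.pullback _).mapIso θ

theorem result' {X Y : Scheme.{u}}
    (hY : (CompactSpace Y ∧ Y.IsSeparated) ∨ AlgebraicGeometry.IsNoetherian Y) (q : X ⟶ Y)
    [QuasiCompact q] [LocallyOfFiniteType q]
    (L : X.Modules) (hL : PicF.IsInvertible L) (h : RelProj.IsRelVeryAmple q L) :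
    ∃ (𝒮 : RelProj.QCGrAlg Y) (P : Scheme.{u}) (p : P ⟶ Y)
      (chart : ∀ (U : Y.Opens) (hU : IsAffineOpen U), ((p ⁻¹ᵁ U : P.Opens) : Scheme.{u}) ≅ Proj (𝒮.deg U hU))
      (O1 : P.Modules)
      (lam : ∀ (U : Y.Opens) (hU : IsAffineOpen U),
        O1 ⟶ (Scheme.Modules.pushforward (RelProj.emb p chart U hU)).obj (GrTwist.twist (𝒮.deg U hU) 1))
      (i : X ⟶ P),
      𝒮.IsGenDegOne ∧ 𝒮.IsFTDeg 1 ∧ RelProj.IsRelProj 𝒮 p chart ∧ RelProj.IsRelTwist 𝒮 p chart 1 O1 lam ∧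
        IsOpenImmersion i ∧ Dense (Set.range i.base) ∧ i ≫ p = q ∧
        Nonempty (L ≅ (Scheme.Modules.pullback i).obj O1) := by
  have hY' : (CompactSpace Y ∧ Y.IsSeparated) ∨ NoetherianSpace Y :=
    hY.imp id fun h => by haveI := h; infer_instance
  obtain ⟨E, 𝒯, j, P, p, chart, O1, lam, i, hEq, hEft, hj, hP, hO1, hi, hip, ⟨τ⟩⟩ :=
    Groth.RelVA.exists_ft_bundle hY' q hL h
  have : E.IsQuasicoherent := hEq
  have hgen := isGenDegOne_sym hj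
  have hft := isFTDeg_one_sym hj fun U hU => Groth.QCohMod.finite_sections E hEft hU
  have : IsProper p :=
    Groth.Chow.isProper_of_isProjective ⟨𝒯, P, p, chart, Iso.refl P, hgen, hft, hP, Category.id_comp p⟩
  have : QuasiCompact (i ≫ p) := hip ▸ inferInstance
  have : QuasiCompact i := QuasiCompact.of_comp i p
  obtain ⟨𝒮, Q, q', chartQ, OQ, lamQ, r, h1, h2, h3, h4, h5, h6, h7, ⟨σ⟩⟩ :=
    exists_open_dense hgen hft hP hO1 i
  exact ⟨𝒮, Q, q', chartQ, OQ, lamQ, r, h1, h2, h3, h4, h5, h6, h7.trans hip, ⟨τ ≪≫ σ⟩⟩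

end Groth.Ega2Dense
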